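import Mathlib

/-!
# `dx_i` is part of a basis of the absolute differentials of a regular local ring of char `p`
-/

open IsLocalRing

universe u

namespace RegParamLib

variable {A : Type u} [CommRing A] [IsLocalRing A]

/-- A coefficient field of `A/m²` in characteristic `p`. -/
theorem exists_section (p : ℕ) [Fact p.Prime] [CharP A p] :
    ∃ s : ResidueField A →+* A ⧸ (maximalIdeal A ^ 2),
      (Ideal.Quotient.factor (Ideal.pow_le_self (I := maximalIdeal A) two_ne_zero)).comp s =
        RingHom.id (ResidueField A) := by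
  classical
  have hp : p.Prime := Fact.out
  set 𝔪 := maximalIdeal A
  set T := A ⧸ 𝔪 ^ 2
  set K := ResidueField A
  let π : T →+* K := Ideal.Quotient.factor (Ideal.pow_le_self (I := 𝔪) two_ne_zero)
  have hπ : Function.Surjective π := Ideal.Quotient.factor_surjective _
  haveI : Nontrivial T := π.domain_nontrivial
  haveI : CharP T p := by
    have : ((p : ℕ) : T) = 0 := by
      rw [← map_natCast (Ideal.Quotient.mk (𝔪 ^ 2)), CharP.cast_eq_zero, map_zero]
    obtain ⟨q, hq⟩ := CharP.exists T
    have hdvd : q ∣ p := (CharP.cast_eq_zero_iff T q p).1 this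
    rcases (Nat.dvd_prime hp).1 hdvd with rfl | rfl
    · exact (CharP.false_of_nontrivial_of_char_one (R := T)).elim
    · exact hq
  haveI : CharP K p := by
    have hpK : ((p : ℕ) : K) = 0 := by rw [← map_natCast π, CharP.cast_eq_zero, map_zero]
    obtain ⟨q, hq⟩ := CharP.exists K
    rcases (Nat.dvd_prime hp).1 ((CharP.cast_eq_zero_iff K q p).1 hpK) with rfl | rfl
    · exact (CharP.false_of_nontrivial_of_char_one (R := K)).elim
    · exact hq
  have hker : ∀ z w : T, π z = 0 → π w = 0 → z * w = 0 := by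
    intro z w hz hw
    obtain ⟨z, rfl⟩ := Ideal.Quotient.mk_surjective z
    obtain ⟨w, rfl⟩ := Ideal.Quotient.mk_surjective w
    simp only [π, Ideal.Quotient.factor_mk] at hz hw
    rw [← map_mul, Ideal.Quotient.eq_zero_iff_mem, sq]
    exact Ideal.mul_mem_mul ((residue_eq_zero_iff z).1 hz) ((residue_eq_zero_iff w).1 hw)
  have hpow : ∀ a b : T, π a = π b → a ^ p = b ^ p := fun a b h => by
    rw [← sub_eq_zero, ← sub_pow_char, ← Nat.sub_add_cancel hp.two_le, pow_add, pow_two (a - b),
      hker (a - b) (a - b) (by rw [map_sub, h, sub_self]) (by rw [map_sub, h, sub_self]), mul_zero]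
  -- subrings mapping injectively which contain all `p`-th powers
  let 𝒮 : Set (Subring T) := {S | (∀ a : T, a ^ p ∈ S) ∧ ∀ x ∈ S, π x = 0 → x = 0}
  let S₀ : Subring T := (frobenius T p).range
  have hS₀ : S₀ ∈ 𝒮 := ⟨fun a => ⟨a, rfl⟩, by
    rintro _ ⟨a, rfl⟩ ha
    rw [frobenius_def, map_pow] at ha
    have := eq_zero_of_pow_eq_zero ha
    rw [frobenius_def, hpow a 0 (by rw [this, map_zero]), zero_pow hp.ne_zero]⟩
  obtain ⟨S, -, hS⟩ := zorn_le_nonempty₀ 𝒮 (fun c hc hchain y hy => by
    refine ⟨sSup c, ⟨fun a => (le_sSup hy : y ≤ sSup c) ((hc hy).1 a), fun x hx hx0 => ?_⟩,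
      fun z hz => le_sSup hz⟩
    obtain ⟨Z, hZ, hxZ⟩ := (Subring.mem_sSup_of_directedOn ⟨y, hy⟩ hchain.directedOn).1 hx
    exact (hc hZ).2 x hxZ hx0) S₀ hS₀
  obtain ⟨hSp, hSinj⟩ := hS.prop
  -- the image is everything
  let L : Subring K := S.map π
  have hLp : ∀ α : K, α ^ p ∈ L := fun α => by
    obtain ⟨a, rfl⟩ := hπ α
    exact ⟨a ^ p, hSp a, map_pow π a p⟩
  have hLfield : ∀ x ∈ L, x⁻¹ ∈ L := fun x hx => by
    by_cases hx0 : x = 0
    · simpa [hx0] using L.zero_mem
    · have : x⁻¹ = x ^ (p - 1) * (x⁻¹) ^ p := by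
        obtain ⟨q, hq⟩ := Nat.exists_eq_succ_of_ne_zero hp.ne_zero
        rw [hq, Nat.succ_sub_one, pow_succ, ← mul_assoc, ← mul_pow, mul_inv_cancel₀ hx0,
          one_pow, one_mul]
      rw [this]
      exact L.mul_mem (L.pow_mem hx _) (hLp _)
  have hsurj : ∀ α : K, α ∈ L := by
    intro α
    by_contra hα
    obtain ⟨a, rfl⟩ := hπ α
    let F : Subfield K := { L with inv_mem' := hLfield }
    -- the bigger subring
    let φ : Polynomial S →+* T := Polynomial.eval₂RingHom S.subtype a
    have hbig : φ.range ∈ 𝒮 := by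
      refine ⟨fun b => ⟨Polynomial.C ⟨b ^ p, hSp b⟩, by simp [φ]⟩, ?_⟩
      rintro _ ⟨f, rfl⟩ hf
      let g : Polynomial S := Polynomial.X ^ p - Polynomial.C ⟨a ^ p, hSp a⟩
      have hg : g.Monic := Polynomial.monic_X_pow_sub_C _ hp.ne_zero
      have hφg : φ g = 0 := by simp [φ, g]
      have hfr : φ f = φ (f %ₘ g) := by
        conv_lhs => rw [← Polynomial.modByMonic_add_div f g]
        rw [map_add, map_mul, hφg, zero_mul, add_zero]
      rw [hfr] at hf ⊢
      set r := f %ₘ g
      have hdeg : r.degree < p := by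
        refine (Polynomial.degree_modByMonic_lt f hg).trans_le ?_
        exact (Polynomial.degree_X_pow_sub_C hp.pos _).le
      let πS : S →+* F := RingHom.codRestrict (π.comp S.subtype) F fun x => ⟨x, x.2, rfl⟩
      have h0 : Polynomial.aeval (π a) (r.map πS) = 0 := by
        rw [Polynomial.aeval_def, Polynomial.eval₂_map,
          show (algebraMap F K).comp πS = π.comp S.subtype from rfl, ← Polynomial.hom_eval₂]
        exact hf
      have hirr : Irreducible (Polynomial.X ^ p - Polynomial.C (⟨π a ^ p, hLp (π a)⟩ : F)) := by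
        refine X_pow_sub_C_irreducible_of_prime hp fun b hb => hα ?_
        have : (b : K) ^ p = π a ^ p := congrArg Subtype.val hb
        rw [← frobenius_inj K p this]
        exact b.2
      have hr0 : r.map πS = 0 := by
        by_contra hne
        have hmin := minpoly.eq_of_irreducible_of_monic (A := F) (x := π a) hirr
          (by simp; exact sub_self _) (Polynomial.monic_X_pow_sub_C _ hp.ne_zero)
        have h1 := minpoly.degree_le_of_ne_zero F (π a) hne h0
        rw [← hmin, Polynomial.degree_X_pow_sub_C hp.pos] at h1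
        exact absurd ((h1.trans Polynomial.degree_map_le).trans_lt hdeg) (lt_irrefl _)
      have hinj : Function.Injective πS := (injective_iff_map_eq_zero _).2 fun x hx =>
        Subtype.ext (hSinj x x.2 (congrArg Subtype.val hx))
      rw [Polynomial.map_eq_zero_iff hinj] at hr0
      rw [hr0, map_zero]
    have hle : S ≤ φ.range := fun x hx => ⟨Polynomial.C ⟨x, hx⟩, by simp [φ]⟩
    have hmem : a ∈ φ.range := ⟨Polynomial.X, by simp [φ]⟩
    exact hα ⟨a, hS.le_of_ge hbig hle hmem, rfl⟩
  let e : S ≃+* K := RingEquiv.ofBijective (π.comp S.subtype)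
    ⟨(injective_iff_map_eq_zero _).2 fun x hx => Subtype.ext (hSinj x x.2 hx), fun α => by
      obtain ⟨x, hx, rfl⟩ := hsurj α
      exact ⟨⟨x, hx⟩, rfl⟩⟩
  exact ⟨S.subtype.comp e.symm.toRingHom, RingHom.ext fun α => e.apply_symm_apply α⟩

/-- Minimal generators of `m` have independent differentials modulo `m`. -/
theorem linearIndependent_tmul_D (p : ℕ) [Fact p.Prime] [IsRegularLocalRing A] [CharP A p]
    {N : ℕ} (x : Fin N → A) (hx : Ideal.span (Set.range x) = maximalIdeal A)
    (hN : ringKrullDim A = (N : WithBot ℕ∞)) :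
    LinearIndependent (ResidueField A)
      (fun i => (1 : ResidueField A) ⊗ₜ[A] KaehlerDifferential.D ℤ A (x i)) := by
  classical
  set 𝔪 := maximalIdeal A
  set K := ResidueField A
  set T := A ⧸ 𝔪 ^ 2
  obtain ⟨s, hs⟩ := exists_section (A := A) p
  let π : T →+* K := Ideal.Quotient.factor (Ideal.pow_le_self (I := 𝔪) two_ne_zero)
  let δ₀ : A → T := fun a => Ideal.Quotient.mk _ a - s (residue A a)
  have hδker : ∀ a, π (δ₀ a) = 0 := fun a => by
    have : π (s (residue A a)) = residue A a := RingHom.congr_fun hs _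
    rw [map_sub, this]
    exact sub_self _
  have hsq : ∀ a b, δ₀ a * δ₀ b = 0 := fun a b => by
    obtain ⟨u, hu⟩ := Ideal.Quotient.mk_surjective (δ₀ a)
    obtain ⟨v, hv⟩ := Ideal.Quotient.mk_surjective (δ₀ b)
    rw [← hu, ← hv, ← map_mul, Ideal.Quotient.eq_zero_iff_mem, sq]
    have h1 := hδker a; rw [← hu] at h1
    have h2 := hδker b; rw [← hv] at h2
    exact Ideal.mul_mem_mul ((residue_eq_zero_iff u).1 h1) ((residue_eq_zero_iff v).1 h2)
  let δ : Derivation ℤ A T := Derivation.mk'
    (AddMonoidHom.mk' δ₀ (fun a b => by simp only [δ₀, map_add]; ring)).toIntLinearMap (fun a b => by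
      show δ₀ (a * b) = a • δ₀ b + b • δ₀ a
      have h := hsq a b
      simp only [δ₀, map_mul, Algebra.smul_def, Ideal.Quotient.algebraMap_eq] at h ⊢
      linear_combination (-1 : T) * h)
  have hxm : ∀ i, x i ∈ 𝔪 := fun i => hx ▸ Ideal.subset_span ⟨i, rfl⟩
  have hδx : ∀ i, δ (x i) = Ideal.Quotient.mk _ (x i) := fun i => by
    show δ₀ (x i) = _
    rw [show δ₀ (x i) = Ideal.Quotient.mk _ (x i) - s (residue A (x i)) from rfl,
      (residue_eq_zero_iff _).2 (hxm i), map_zero, sub_zero]
  -- the classes of the `x i` form a basis of the cotangent space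
  have hli : LinearIndependent K fun i => 𝔪.toCotangent ⟨x i, hxm i⟩ := by
    apply linearIndependent_of_top_le_span_of_card_eq_finrank
    · have hsp : Submodule.span A (Set.range fun i => (⟨x i, hxm i⟩ : 𝔪)) = ⊤ := by
        apply Submodule.map_injective_of_injective (Submodule.injective_subtype 𝔪)
        rw [Submodule.map_top, Submodule.range_subtype, Submodule.map_span, ← Set.range_comp]
        exact hx
      rw [← CotangentSpace.span_image_eq_top_iff, ← Set.range_comp] at hsp
      exact hsp.ge
    · have h := (IsRegularLocalRing.iff_finrank_cotangentSpace A).1 ‹_›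
      rw [hN] at h
      rw [Fintype.card_fin]
      exact (by exact_mod_cast h.symm)
  rw [Fintype.linearIndependent_iff] at hli ⊢
  intro g hg
  choose c hc using fun i => residue_surjective (g i)
  have hsum : ∑ i, c i • KaehlerDifferential.D ℤ A (x i) ∈
      (𝔪 • ⊤ : Submodule A (KaehlerDifferential ℤ A)) := by
    have h0 : (1 : K) ⊗ₜ[A] ∑ i, c i • KaehlerDifferential.D ℤ A (x i) = 0 := by
      rw [TensorProduct.tmul_sum, ← hg]
      refine Finset.sum_congr rfl fun i _ => ?_
      rw [TensorProduct.tmul_smul, ← hc, ← ResidueField.algebraMap_eq, algebraMap_smul]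
    have h1 := congrArg (TensorProduct.quotTensorEquivQuotSMul (KaehlerDifferential ℤ A) 𝔪) h0
    replace h1 := h1.trans (LinearEquiv.map_zero _)
    have h3 := (TensorProduct.quotTensorEquivQuotSMul_mk_tmul (M := KaehlerDifferential ℤ A) 𝔪 (1 : A)
      (∑ i, c i • KaehlerDifferential.D ℤ A (x i))).symm.trans h1
    rwa [one_smul, Submodule.Quotient.mk_eq_zero] at h3
  have hker : ∀ w ∈ (𝔪 • ⊤ : Submodule A (KaehlerDifferential ℤ A)),
      δ.liftKaehlerDifferential w ∈ (𝔪 • ⊤ : Submodule A T) := fun w hw => by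
    have := Submodule.mem_map_of_mem (f := δ.liftKaehlerDifferential) hw
    rw [Submodule.map_smul''] at this
    exact Submodule.smul_mono le_rfl le_top this
  -- each value lies in the square-zero part, so `∑ cᵢ xᵢ ∈ m²`
  let I : Ideal A := 𝔪 ^ 2
  have hrange : ∀ w : KaehlerDifferential ℤ A, π (δ.liftKaehlerDifferential w) = 0 := by
    intro w
    have hw : w ∈ Submodule.span A (Set.range (KaehlerDifferential.D ℤ A)) := by
      rw [KaehlerDifferential.span_range_derivation]; exact Submodule.mem_top
    induction hw using Submodule.span_induction with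
    | mem w hw => obtain ⟨a, rfl⟩ := hw; rw [Derivation.liftKaehlerDifferential_comp_D]; exact hδker a
    | zero => simp
    | add a b _ _ ha hb => simp [ha, hb]
    | smul r a _ ha => rw [map_smul, Algebra.smul_def, map_mul, ha, mul_zero]
  have hzero : ∀ w ∈ (𝔪 • ⊤ : Submodule A (KaehlerDifferential ℤ A)),
      δ.liftKaehlerDifferential w = 0 := fun w hw => by
    induction hw using Submodule.smul_induction_on' with
    | smul r hr n _ =>
      obtain ⟨v, hv⟩ := Ideal.Quotient.mk_surjective (δ.liftKaehlerDifferential n)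
      have h1 := hrange n
      rw [← hv] at h1
      rw [map_smul, ← hv, Algebra.smul_def, Ideal.Quotient.algebraMap_eq, ← map_mul,
        Ideal.Quotient.eq_zero_iff_mem, sq]
      exact Ideal.mul_mem_mul hr ((residue_eq_zero_iff v).1 h1)
    | add a _ b _ ha hb => rw [map_add, ha, hb, add_zero]
  have hmem : ∑ i, c i * x i ∈ 𝔪 ^ 2 := by
    rw [← Ideal.Quotient.eq_zero_iff_mem, ← hzero _ hsum, map_sum, map_sum]
    refine Finset.sum_congr rfl fun i _ => ?_
    rw [map_smul, Derivation.liftKaehlerDifferential_comp_D, hδx, Algebra.smul_def, map_mul,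
      Ideal.Quotient.algebraMap_eq]
  refine hli g ?_
  have h2 : 𝔪.toCotangent (∑ i, c i • (⟨x i, hxm i⟩ : 𝔪)) = 0 := by
    rw [Ideal.toCotangent_eq_zero, Submodule.coe_sum]
    simpa using hmem
  rw [map_sum] at h2
  refine Eq.trans ?_ h2
  refine Finset.sum_congr rfl fun i _ => ?_
  rw [map_smul, ← hc, ← ResidueField.algebraMap_eq, algebraMap_smul]

theorem exists_basis (p : ℕ) [Fact p.Prime] [IsRegularLocalRing A] [CharP A p]
    [Module.Free A (KaehlerDifferential ℤ A)] [Module.Finite A (KaehlerDifferential ℤ A)]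
    {N : ℕ} (x : Fin N → A) (hx : Ideal.span (Set.range x) = maximalIdeal A)
    (hN : ringKrullDim A = (N : WithBot ℕ∞)) :
    ∃ (ι : Type u) (b : Module.Basis ι A (KaehlerDifferential ℤ A)) (e : Fin N ↪ ι),
      ∀ i : Fin N, b (e i) = KaehlerDifferential.D ℤ A (x i) := by
  classical
  set K := ResidueField A
  let V := TensorProduct A K (KaehlerDifferential ℤ A)
  have hli := linearIndependent_tmul_D p x hx hN
  let β := hli.linearIndepOn_id.extend (Set.subset_univ _)
  let bV : Module.Basis β K V := Module.Basis.extend hli.linearIndepOn_id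
  have hsurj : Function.Surjective (TensorProduct.mk A K (KaehlerDifferential ℤ A) 1) :=
    TensorProduct.mk_surjective A (KaehlerDifferential ℤ A) K residue_surjective
  let e : Fin N ↪ β := ⟨fun i => ⟨_, hli.linearIndepOn_id.subset_extend (Set.subset_univ _) ⟨i, rfl⟩⟩,
    fun i j h => hli.injective (congrArg Subtype.val h)⟩
  let w : β → KaehlerDifferential ℤ A := fun v =>
    if h : ∃ i, e i = v then KaehlerDifferential.D ℤ A (x h.choose)
    else Function.surjInv hsurj (v : V)
  have hw : ∀ v, (1 : K) ⊗ₜ[A] w v = (v : V) := fun v => by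
    simp only [w]
    split_ifs with h
    · exact congrArg Subtype.val h.choose_spec
    · exact Function.surjInv_eq hsurj (v : V)
  have hwb : (TensorProduct.mk A K (KaehlerDifferential ℤ A) 1) ∘ w = bV := funext fun v => by
    rw [Module.Basis.extend_apply_self]; exact hw v
  haveI : Module.FinitePresentation A (KaehlerDifferential ℤ A) :=
    Module.finitePresentation_of_finite A _
  obtain ⟨b, hb⟩ := Module.exists_basis_of_basis_baseChange w (by rw [hwb]; exact bV.linearIndependent)
    (by rw [hwb]; exact bV.span_eq)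
    (Module.Flat.rTensor_preserves_injective_linearMap _ Subtype.val_injective)
  refine ⟨β, b, e, fun i => ?_⟩
  rw [hb]
  simp only [w]
  have h : ∃ j, e j = e i := ⟨i, rfl⟩
  rw [dif_pos h, e.injective h.choose_spec]

end RegParamLib
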